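import Groth.Agent.DetDegLib.Main
import Groth.Agent.CohCmpLib.FrameTools
import Groth.Agent.TwistLib.PullGen
import Groth.Agent.AmpleThLib.Pow
import Groth.Agent.PnDualLib.Eventually
import Groth.Prelude

/-!
# Determinants along an exact sequence ending in a pullback
-/

set_option autoImplicit false
set_option linter.style.haveILetI false
set_option linter.unusedSectionVars false
set_option maxHeartbeats 1000000
set_option backward.isDefEq.respectTransparency false
set_option backward.isDefEq.respectTransparency.types false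
universe u

open CategoryTheory CategoryTheory.Limits AlgebraicGeometry TopologicalSpace Opposite
open AmpleLib (res res_res res_smul shT GenAt GenOn)
open DetDegLib (FrameAt wsec)
open DevissLib (gm St)
open OmegaSh (pullSect)

noncomputable section

namespace AdjFormLib

/-- A finite family of indices split in two. -/
theorem det_split {R : Type*} [CommRing R] {a c n : ℕ} (σ : Fin a ⊕ Fin c ≃ Fin n) (M : Matrix (Fin n) (Fin n) R)
    (h : ∀ i j, M (σ (Sum.inr i)) (σ (Sum.inl j)) = 0) :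
    M.det = (Matrix.of fun i j => M (σ (Sum.inl i)) (σ (Sum.inl j))).det *
      (Matrix.of fun i j => M (σ (Sum.inr i)) (σ (Sum.inr j))).det := by
  rw [← Matrix.det_submatrix_equiv_self σ M, ← Matrix.det_fromBlocks_zero₂₁
    _ (Matrix.of fun i j => M (σ (Sum.inl i)) (σ (Sum.inr j))) _]
  congr 1
  ext (i | i) (j | j) <;> simp [h]

variable {X Y : Scheme.{u}} (i : Y ⟶ X) [IsAffineHom i] {n a c : ℕ} (σ : Fin a ⊕ Fin c ≃ Fin n)
  {B : X.Modules} {A C : Y.Modules} [Coh.IsQCoh B] [Coh.IsQCoh A] [Coh.IsQCoh C]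
  (φ : A ⟶ (Scheme.Modules.pullback i).obj B) (ψ : (Scheme.Modules.pullback i).obj B ⟶ C)

/-- An affine open of the preimage. -/
abbrev preO (U : X.affineOpens) : Y.affineOpens := ⟨i ⁻¹ᵁ U.1, U.2.preimage i⟩

/-- An affine open with frames adapted to the sequence. -/
structure Datum where
  U : X.affineOpens
  e : Fin a → Γ(A, i ⁻¹ᵁ U.1)
  b : Fin n → Γ(B, U.1)
  he : ∀ (y : Y) (hy : y ∈ i ⁻¹ᵁ U.1), FrameAt A e hy
  hb : ∀ (x : X) (hx : x ∈ U.1), FrameAt B b hx
  hφ : ∀ j, φ.app (i ⁻¹ᵁ U.1) (e j) = pullSect i B U.1 (b (σ (Sum.inl j)))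

variable {i σ φ}

/-- The classes of the complementary part. -/
def Datum.f (d : Datum i σ φ) (j : Fin c) : Γ(C, i ⁻¹ᵁ d.U.1) :=
  ψ.app (i ⁻¹ᵁ d.U.1) (pullSect i B d.U.1 (d.b (σ (Sum.inr j))))

/-- Restriction of adapted frames. -/
def Datum.res (d : Datum i σ φ) (W : X.affineOpens) (h : W.1 ≤ d.U.1) : Datum i σ φ where
  U := W
  e j := A.presheaf.map (homOfLE (i.preimage_mono h)).op (d.e j)
  b j := B.presheaf.map (homOfLE h).op (d.b j)
  he y hy := (DetDegLib.frameAt_res _ _ hy).2 (d.he y (i.preimage_mono h hy))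
  hb x hx := (DetDegLib.frameAt_res _ _ hx).2 (d.hb x (h hx))
  hφ j := by
    rw [OmegaSh.pullSect_map, ← d.hφ j]
    exact QCohLib.app_map φ (homOfLE (i.preimage_mono h)) (d.e j)

theorem Datum.res_f (d : Datum i σ φ) (W : X.affineOpens) (h : W.1 ≤ d.U.1) (j : Fin c) :
    (d.res W h).f ψ j = C.presheaf.map (homOfLE (i.preimage_mono h)).op (d.f ψ j) := by
  refine (congrArg (ψ.app (i ⁻¹ᵁ W.1)) (OmegaSh.pullSect_map i B h (d.b (σ (Sum.inr j))))).trans ?_
  exact QCohLib.app_map ψ (homOfLE (i.preimage_mono h)) _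

theorem Datum.pull_frame (d : Datum i σ φ) (y : Y) (hy : y ∈ i ⁻¹ᵁ d.U.1) :
    FrameAt ((Scheme.Modules.pullback i).obj B) (fun j => pullSect i B d.U.1 (d.b j)) hy := by
  have h : ProjFormLib.IsFrame B d.b := fun x hx => by
    refine Eq.mp (congrArg Function.Bijective (funext fun v => ?_)) (d.hb x hx)
    exact (Fintype.linearCombination_apply _ _ v).symm
  refine Eq.mp (congrArg Function.Bijective (funext fun v => ?_)) (CohCmpLib.isFrame_puSec i h y hy)
  exact Fintype.linearCombination_apply _ _ v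

variable (hex : ∀ (y : Y) (b : (St y).obj ((Scheme.Modules.pullback i).obj B)),
    ((St y).map ψ).hom b = 0 → ∃ a, ((St y).map φ).hom a = b)
  (hsurj : ∀ y : Y, Function.Surjective ((St y).map ψ).hom)
  (hw : φ ≫ ψ = 0)

include hex hsurj hw in
theorem Datum.frame_f (d : Datum i σ φ) (y : Y) (hy : y ∈ i ⁻¹ᵁ d.U.1) : FrameAt C (d.f ψ) hy := by
  let PB := (Scheme.Modules.pullback i).obj B
  let v : Fin n → (St y).obj PB := fun j => gm PB y hy (pullSect i B d.U.1 (d.b j))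
  have hv : Function.Bijective fun r : Fin n → Y.presheaf.stalk y => ∑ j, r j • v j := d.pull_frame y hy
  have hsum : ∀ r : Fin n → Y.presheaf.stalk y, ∑ j, r j • v j =
      (∑ j, r (σ (Sum.inl j)) • v (σ (Sum.inl j))) + ∑ j, r (σ (Sum.inr j)) • v (σ (Sum.inr j)) := fun r => by
    rw [← Fintype.sum_sum_type (fun s => r (σ s) • v (σ s))]
    exact (σ.sum_comp fun j => r j • v j).symm
  have hψ : ∀ j, ((St y).map ψ).hom (v (σ (Sum.inr j))) = gm C y hy (d.f ψ j) := fun j =>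
    ProjFormLib.ger_map ψ y hy _
  have hφ : ∀ j, ((St y).map φ).hom (gm A y hy (d.e j)) = v (σ (Sum.inl j)) := fun j =>
    (ProjFormLib.ger_map φ y hy _).trans (congrArg (gm PB y hy) (d.hφ j))
  have h0 : ∀ x, ((St y).map ψ).hom (((St y).map φ).hom x) = 0 := fun x => by
    rw [← ConcreteCategory.comp_apply, ← Functor.map_comp, hw, Functor.map_zero]
    rfl
  have hLψ : ∀ q : Fin c → Y.presheaf.stalk y, ((St y).map ψ).hom (∑ j, q j • v (σ (Sum.inr j))) =
      ∑ j, q j • gm C y hy (d.f ψ j) := fun q =>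
    (map_sum _ _ _).trans (Finset.sum_congr rfl fun j _ => (map_smul _ _ _).trans (congrArg (q j • ·) (hψ j)))
  have hLφ : ∀ p : Fin a → Y.presheaf.stalk y, ((St y).map φ).hom (∑ j, p j • gm A y hy (d.e j)) =
      ∑ j, p j • v (σ (Sum.inl j)) := fun p =>
    (map_sum _ _ _).trans (Finset.sum_congr rfl fun j _ => (map_smul _ _ _).trans (congrArg (p j • ·) (hφ j)))
  constructor
  · intro r r' hr
    rw [← sub_eq_zero]
    have h1 : ((St y).map ψ).hom (∑ j, (r - r') j • v (σ (Sum.inr j))) = 0 := by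
      refine (hLψ _).trans ?_
      refine ((Finset.sum_congr rfl fun j _ => sub_smul (r j) (r' j) _).trans (Finset.sum_sub_distrib _ _)).trans ?_
      exact sub_eq_zero.2 hr
    generalize r - r' = q at h1 ⊢
    obtain ⟨x, hx⟩ := hex y _ h1
    obtain ⟨p, rfl⟩ := (d.he y hy).2 x
    let w : Fin n → Y.presheaf.stalk y := fun j => Sum.elim p (fun k => - q k) (σ.symm j)
    have hwl : ∀ j, w (σ (Sum.inl j)) = p j := fun j => by simp [w]
    have hwr : ∀ j, w (σ (Sum.inr j)) = - q j := fun j => by simp [w]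
    have h2 : ∑ j, w j • v j = 0 := by
      refine (hsum w).trans ?_
      rw [Finset.sum_congr rfl fun j _ => congrArg (· • v (σ (Sum.inl j))) (hwl j),
        Finset.sum_congr rfl fun j _ => (congrArg (· • v (σ (Sum.inr j))) (hwr j)).trans (neg_smul (q j) _),
        Finset.sum_neg_distrib, ← sub_eq_add_neg]
      exact sub_eq_zero.2 ((hLφ p).symm.trans hx)
    have h3 : w = 0 := hv.1 (h2.trans (Finset.sum_eq_zero fun j _ => zero_smul (Y.presheaf.stalk y) _).symm)
    funext k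
    exact neg_eq_zero.1 ((hwr k).symm.trans (congrFun h3 _))
  · intro m
    obtain ⟨x, rfl⟩ := hsurj y m
    obtain ⟨r, rfl⟩ := hv.2 x
    refine ⟨fun j => r (σ (Sum.inr j)), ?_⟩
    show ∑ j, r (σ (Sum.inr j)) • gm C y hy (d.f ψ j) = ((St y).map ψ).hom (∑ j, r j • v j)
    refine Eq.trans ?_ (congrArg ((St y).map ψ).hom (hsum r)).symm
    refine Eq.trans ?_ (map_add _ _ _).symm
    rw [← hLφ, h0, zero_add]
    exact (hLψ fun j => r (σ (Sum.inr j))).symm

section Gens

variable {LA LC : Y.Modules} {LB : X.Modules}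
  (φA : ∀ U : Y.affineOpens, (LA.val.obj (op U.1)) ≃ₗ[Γ(Y, U.1)] ↥(⋀[Γ(Y, U.1)]^a (A.val.obj (op U.1))))
  (φB : ∀ U : X.affineOpens, (LB.val.obj (op U.1)) ≃ₗ[Γ(X, U.1)] ↥(⋀[Γ(X, U.1)]^n (B.val.obj (op U.1))))
  (φC : ∀ U : Y.affineOpens, (LC.val.obj (op U.1)) ≃ₗ[Γ(Y, U.1)] ↥(⋀[Γ(Y, U.1)]^c (C.val.obj (op U.1))))

/-- The generator of the tensor product. -/
def Datum.gen₁ (d : Datum i σ φ) : Γ(CohB1.tensorMod LC LA, i ⁻¹ᵁ d.U.1) :=
  shT (wsec φC (preO i d.U) (d.f ψ)) (wsec φA (preO i d.U) d.e)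

/-- The generator of the pullback. -/
def Datum.gen₂ (d : Datum i σ φ) : Γ((Scheme.Modules.pullback i).obj LB, i ⁻¹ᵁ d.U.1) :=
  pullSect i LB d.U.1 (wsec φB d.U d.b)

variable
  (hA : ∀ (U V : Y.affineOpens) (h : V.1 ≤ U.1) (e : Fin a → A.val.obj (op U.1)),
    LA.val.map (homOfLE h).op ((φA U).symm (exteriorPower.ιMulti _ a e)) =
      (φA V).symm (exteriorPower.ιMulti _ a (fun j => A.val.map (homOfLE h).op (e j))))
  (hB : ∀ (U V : X.affineOpens) (h : V.1 ≤ U.1) (e : Fin n → B.val.obj (op U.1)),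
    LB.val.map (homOfLE h).op ((φB U).symm (exteriorPower.ιMulti _ n e)) =
      (φB V).symm (exteriorPower.ιMulti _ n (fun j => B.val.map (homOfLE h).op (e j))))
  (hC : ∀ (U V : Y.affineOpens) (h : V.1 ≤ U.1) (e : Fin c → C.val.obj (op U.1)),
    LC.val.map (homOfLE h).op ((φC U).symm (exteriorPower.ιMulti _ c e)) =
      (φC V).symm (exteriorPower.ιMulti _ c (fun j => C.val.map (homOfLE h).op (e j))))

include hA hC in
theorem Datum.gen₁_res (d : Datum i σ φ) (W : X.affineOpens) (h : W.1 ≤ d.U.1) :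
    AmpleLib.res (CohB1.tensorMod LC LA) (i.preimage_mono h) (d.gen₁ ψ φA φC) = (d.res W h).gen₁ ψ φA φC := by
  refine (AmpleLib.shT_res (i.preimage_mono h) _ _).trans ?_
  refine congrArg₂ shT ?_ ?_
  · refine (DetDegLib.wsec_res φC hC (preO i d.U) (preO i W) (i.preimage_mono h) _).trans ?_
    exact congrArg (wsec φC (preO i W)) (funext fun j => (d.res_f ψ W h j).symm)
  · exact DetDegLib.wsec_res φA hA (preO i d.U) (preO i W) (i.preimage_mono h) _

include hB in
theorem Datum.gen₂_res (d : Datum i σ φ) (W : X.affineOpens) (h : W.1 ≤ d.U.1) :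
    AmpleLib.res ((Scheme.Modules.pullback i).obj LB) (i.preimage_mono h) (d.gen₂ φB) = (d.res W h).gen₂ φB :=
  (OmegaSh.pullSect_map i LB h _).symm.trans (congrArg (pullSect i LB W.1) (DetDegLib.wsec_res φB hB d.U W h _))

include hex hsurj hw in
/-- Two adapted frames on the same affine open differ by the same unit on both generators. -/
theorem Datum.exists_ratio {W : X.affineOpens} (d d' : Datum i σ φ) (hd : d.U = W) (hd' : d'.U = W) :
    ∃ s : Γ(Y, i ⁻¹ᵁ W.1), s • (hd ▸ d.gen₁ ψ φA φC : Γ(CohB1.tensorMod LC LA, i ⁻¹ᵁ W.1)) = hd' ▸ d'.gen₁ ψ φA φC ∧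
      s • (hd ▸ d.gen₂ φB : Γ((Scheme.Modules.pullback i).obj LB, i ⁻¹ᵁ W.1)) = hd' ▸ d'.gen₂ φB := by
  subst hd
  obtain ⟨U', e', b', he', hb', hφ'⟩ := d'
  obtain rfl : U' = d.U := hd'
  let d' : Datum i σ φ := ⟨d.U, e', b', he', hb', hφ'⟩
  let PB := (Scheme.Modules.pullback i).obj B
  haveI : Coh.IsQCoh PB := KFlatLib.isQCoh_pullback i B
  let U := d.U
  let V := preO i U
  have hbijB := DetDegLib.frame_bijective U.2 d.b d.hb
  choose Mc hMc using fun j => hbijB.2 (b' j)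
  let M : Matrix (Fin n) (Fin n) Γ(X, U.1) := Matrix.of fun p q => Mc q p
  have hM : ∀ j, b' j = ∑ p, M p j • d.b p := fun j => (hMc j).symm
  let N : Matrix (Fin n) (Fin n) Γ(Y, V.1) := M.map (i.app U.1)
  have hN : ∀ j, pullSect i B U.1 (b' j) = ∑ p, N p j • pullSect i B U.1 (d.b p) := fun j => by
    rw [hM j, map_sum]
    exact Finset.sum_congr rfl fun p _ => OmegaSh.pullSect_smul i B U.1 _ _
  have hbijA := DetDegLib.frame_bijective V.2 d.e d.he
  choose Gc hGc using fun j => hbijA.2 (e' j)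
  let G : Matrix (Fin a) (Fin a) Γ(Y, V.1) := Matrix.of fun p q => Gc q p
  have hG : ∀ j, e' j = ∑ p, G p j • d.e p := fun j => (hGc j).symm
  have hbijP := DetDegLib.frame_bijective V.2 (fun j => pullSect i B U.1 (d.b j)) d.pull_frame
  have hblk : ∀ j s, N (σ s) (σ (Sum.inl j)) = Sum.elim (fun p => G p j) (fun _ => 0) s := by
    intro j
    let r : Fin n → Γ(Y, V.1) := fun p => Sum.elim (fun p' => G p' j) (fun _ => 0) (σ.symm p)
    have h1 : ∑ p, N p (σ (Sum.inl j)) • pullSect i B U.1 (d.b p) = ∑ p, r p • pullSect i B U.1 (d.b p) := by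
      rw [← hN, ← hφ' j]
      rw [← σ.sum_comp fun p => r p • pullSect i B U.1 (d.b p), Fintype.sum_sum_type]
      simp only [r, Equiv.symm_apply_apply, Sum.elim_inl, Sum.elim_inr, zero_smul, Finset.sum_const_zero, add_zero]
      rw [show e' j = ∑ p, G p j • d.e p from hG j, map_sum]
      exact Finset.sum_congr rfl fun p _ =>
        (Scheme.Modules.Hom.app_smul φ _ _).trans (congrArg (G p j • ·) (d.hφ p))
    intro s
    have := congrFun (hbijP.1 h1) (σ s)
    simpa [r] using this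
  let H : Matrix (Fin c) (Fin c) Γ(Y, V.1) := Matrix.of fun p q => N (σ (Sum.inr p)) (σ (Sum.inr q))
  have hH : ∀ j, d'.f ψ j = ∑ p, H p j • d.f ψ p := fun j => by
    show ψ.app V.1 (pullSect i B U.1 (b' (σ (Sum.inr j)))) = _
    rw [hN, map_sum, ← σ.sum_comp, Fintype.sum_sum_type]
    have hz : ∀ p, ψ.app V.1 (N (σ (Sum.inl p)) (σ (Sum.inr j)) • pullSect i B U.1 (d.b (σ (Sum.inl p)))) = 0 :=
      fun p => by
      refine (Scheme.Modules.Hom.app_smul ψ _ _).trans ?_
      rw [← d.hφ p, ← ConcreteCategory.comp_apply, ← Scheme.Modules.Hom.comp_app, hw]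
      exact smul_zero _
    rw [Finset.sum_eq_zero fun p _ => hz p, zero_add]
    exact Finset.sum_congr rfl fun p _ => Scheme.Modules.Hom.app_smul ψ _ _
  have eA : wsec φA V e' = (G.det • wsec φA V d.e : Γ(LA, V.1)) :=
    DetDegLib.wsec_matrix φA V d.e e' d.he G hG
  have eC : wsec φC V (d'.f ψ) = (H.det • wsec φC V (d.f ψ) : Γ(LC, V.1)) :=
    DetDegLib.wsec_matrix φC V (d.f ψ) (d'.f ψ) (d.frame_f ψ hex hsurj hw) H hH
  have eB : wsec φB U b' = (M.det • wsec φB U d.b : Γ(LB, U.1)) :=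
    DetDegLib.wsec_matrix φB U d.b b' d.hb M hM
  have edet : i.app U.1 M.det = H.det * G.det := by
    have h1 : N.det = (Matrix.of fun p q => N (σ (Sum.inl p)) (σ (Sum.inl q))).det * H.det :=
      det_split σ N fun p q => hblk q (Sum.inr p)
    rw [show (Matrix.of fun p q => N (σ (Sum.inl p)) (σ (Sum.inl q))) = G from
      Matrix.ext fun p q => hblk q (Sum.inl p)] at h1
    rw [mul_comm, ← h1]
    exact RingHom.map_det (i.app U.1).hom M
  refine ⟨H.det * G.det, ?_, ?_⟩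
  · show (H.det * G.det) • shT (wsec φC V (d.f ψ)) (wsec φA V d.e) = shT (wsec φC V (d'.f ψ)) (wsec φA V e')
    rw [eC, eA, AmpleLib.shT_smul]
  · show (H.det * G.det) • pullSect i LB U.1 (wsec φB U d.b) = pullSect i LB U.1 (wsec φB U b')
    rw [eB, ← edet]
    exact (OmegaSh.pullSect_smul i LB U.1 _ _).symm

include hex hsurj hw hA hB hC in
/-- **The determinant of an exact sequence with adapted frames near each point.** -/
theorem nonempty_det_iso (hcov : ∀ y : Y, ∃ d : Datum i σ φ, i y ∈ d.U.1) :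
    Nonempty ((Scheme.Modules.pullback i).obj LB ≅ CohB1.tensorMod LC LA) := by
  have hg₁ : ∀ d : Datum i σ φ, GenOn (CohB1.tensorMod LC LA) (d.gen₁ ψ φA φC) := fun d =>
    AmpleThLib.shT_genOn
      (TwistLib.genOn_of_genAt fun w hw' =>
        DetDegLib.frameAt_wsec φC hC (preO i d.U) (d.f ψ) (d.frame_f ψ hex hsurj hw) hw')
      (TwistLib.genOn_of_genAt fun w hw' => DetDegLib.frameAt_wsec φA hA (preO i d.U) d.e d.he hw')
  have hg₂ : ∀ d : Datum i σ φ, GenOn ((Scheme.Modules.pullback i).obj LB) (d.gen₂ φB) := fun d =>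
    TwistLib.genOn_of_genAt fun w hw' =>
      TwistLib.GenAt.puSec i (DetDegLib.frameAt_wsec φB hB d.U d.b d.hb (y := i w) hw')
  refine ⟨(AmpleThLib.exists_iso_gens (fun d : Datum i σ φ => i ⁻¹ᵁ d.U.1) (fun d => d.gen₂ φB)
    (fun d => d.gen₁ ψ φA φC) hcov hg₂ hg₁ ?_).choose⟩
  intro d d' V ha hb
  obtain ⟨t, ht⟩ := (hg₁ d V ha).2 (AmpleLib.res _ hb (d'.gen₁ ψ φA φC))
  refine ⟨t, ?_, ht⟩
  refine ProjFormLib.section_ext _ _ fun y hy => ?_
  obtain ⟨_, ⟨W, hW, rfl⟩, hyW, hle⟩ := X.isBasis_affineOpens.exists_subset_of_mem_open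
    (show i y ∈ ((d.U.1 ⊓ d'.U.1 : X.Opens) : Set X) from ⟨ha hy, hb hy⟩) (d.U.1 ⊓ d'.U.1).isOpen
  let W' : X.affineOpens := ⟨W, hW⟩
  have h1 : W'.1 ≤ d.U.1 := fun x hx => (hle hx).1
  have h2 : W'.1 ≤ d'.U.1 := fun x hx => (hle hx).2
  obtain ⟨s, hs₁, hs₂⟩ := (d.res W' h1).exists_ratio ψ hex hsurj hw φA φB φC (d'.res W' h2) rfl rfl
  let O := V ⊓ i ⁻¹ᵁ W
  have hOV : O ≤ V := inf_le_left
  have hOW : O ≤ i ⁻¹ᵁ W := inf_le_right
  have e1 : AmpleLib.res (CohB1.tensorMod LC LA) hOV (t • AmpleLib.res _ ha (d.gen₁ ψ φA φC)) =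
      AmpleLib.res (CohB1.tensorMod LC LA) hOW (s • (d.res W' h1).gen₁ ψ φA φC) := by
    refine (congrArg (AmpleLib.res _ hOV) ht).trans (Eq.trans ?_ (congrArg (AmpleLib.res _ hOW) hs₁).symm)
    rw [← d'.gen₁_res ψ φA φC hA hC W' h2, res_res, res_res]
  rw [← d.gen₁_res ψ φA φC hA hC W' h1, res_smul, res_smul, res_res, res_res] at e1
  have e2 := (hg₁ d O (hOV.trans ha)).1 e1
  have e3 : AmpleLib.res ((Scheme.Modules.pullback i).obj LB) hOV (t • AmpleLib.res _ ha (d.gen₂ φB)) =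
      AmpleLib.res _ hOV (AmpleLib.res _ hb (d'.gen₂ φB)) := by
    have h3 := congrArg (AmpleLib.res ((Scheme.Modules.pullback i).obj LB) hOW) hs₂
    rw [← d.gen₂_res φB hB W' h1, ← d'.gen₂_res φB hB W' h2, res_smul, res_res, res_res] at h3
    rw [res_smul, res_res, res_res]
    exact (congrArg (· • _) e2).trans h3
  have hyO : y ∈ O := ⟨hy, hyW⟩
  have := congrArg (ProjFormLib.ger _ y hyO) e3
  rwa [AmpleLib.res, AmpleLib.res, ProjFormLib.ger_res _ hOV y hyO, ProjFormLib.ger_res _ hOV y hyO] at this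

end Gens

end AdjFormLib
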