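import Groth.Agent.AdjFormLib.Main
import Groth.Agent.FLILib.Global
import Groth.Agent.FLILib.Invertible
import Groth.Agent.ExtTopLib.Top
import Groth.Agent.SerreVanLib.Main
import Groth.Agent.ExtShLib.Hcx

/-!
# Top forms of a smooth closed subscheme as an Ext sheaf
-/

set_option autoImplicit false
set_option linter.style.haveILetI false
set_option linter.unusedSectionVars false
set_option maxHeartbeats 1000000
set_option backward.isDefEq.respectTransparency false
set_option backward.isDefEq.respectTransparency.types false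
universe u

open CategoryTheory CategoryTheory.Limits AlgebraicGeometry TopologicalSpace Opposite
open CohCmpLib (homMod)

noncomputable section

namespace AdjFormLib

/-- A module with frames of a fixed size near each point has that rank. -/
theorem isFinLocFreeOfRank_of_frames {X : Scheme.{u}} {M : X.Modules} {c : ℕ}
    (h : ∀ x : X, ∃ (U : X.Opens) (e : Fin c → Γ(M, U)), x ∈ U ∧ ∀ (y : X) (hy : y ∈ U), DetDegLib.FrameAt M e hy) :
    FlatMod.IsFinLocFreeOfRank c M := fun x => by
  obtain ⟨U, e, hx, he⟩ := h x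
  have he' : ProjFormLib.IsFrame M e := fun y hy => by
    refine (congrArg Function.Bijective (funext fun v => ?_)).mpr (he y hy)
    exact Fintype.linearCombination_apply _ _ v
  obtain ⟨φ⟩ := CohCmpLib.exists_iso_freeMod_of_frame
    (CohCmpLib.isFrame_puSecLE U.ι he' (V := (⊤ : (U : Scheme.{u}).Opens)) (fun z _ => z.2))
  exact ⟨U, hx, ⟨(Scheme.Modules.restrictFunctorIsoPullback U.ι).app M ≪≫ φ⟩⟩

/-- The conormal sheaf of a regular immersion has an exterior power. -/
theorem exists_det {P X : Scheme.{u}} [IsLocallyNoetherian X] {ι : X ⟶ P} [IsClosedImmersion ι] {c : ℕ}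
    (hι : RegImm.IsRegularImmersionOfCodim RegImm.Kind.regular c ι) :
    ∃ L : X.Modules, ExtPow.IsExtPow c (Omega.conormal ι) L := by
  refine ExtTopLib.exists_isExtPow (isFinLocFreeOfRank_of_frames fun x => ?_)
  obtain ⟨U, g, hx, h⟩ := FLI.exists_chart hι x
  exact ⟨_, h.eU, hx, fun z hz => h.frame z hz⟩

/-- `Hom(L, A ⊗ L) ≅ A` for invertible `L`. -/
theorem nonempty_hom_tensor_iso {X : Scheme.{u}} {L : X.Modules} (hL : PicF.IsInvertible L) (A : X.Modules) :
    Nonempty (homMod L (CohB1.tensorMod A L) ≅ A) := by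
  obtain ⟨e⟩ := MiscFlat6.nonempty_dualIso hL
  exact ⟨FLI.homModIso e _ ≪≫
    ((DCoh.tensorBi (X := X)).obj (MiscFlat6.dual L)).mapIso (KFlatLib.tensSwap L A) ≪≫
      ((VBP1Lib.inverseEquiv e).unitIso.app A).symm⟩

/-- **Top forms of a smooth closed subscheme.** -/
theorem nonempty_push_iso_extSh {S P X : Scheme.{u}} [IsLocallyNoetherian S] (g : P ⟶ S) (ι : X ⟶ P)
    [IsClosedImmersion ι] (n r : ℕ) [SmoothOfRelativeDimension n g] [SmoothOfRelativeDimension r (ι ≫ g)]
    (ΩP : P.Modules) (hΩP : ExtPow.IsExtPow n (Omega.sheaf g) ΩP)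
    (ΩX : X.Modules) (hΩX : ExtPow.IsExtPow r (Omega.sheaf (ι ≫ g)) ΩX)
    [ModSite.HasSheafHom (O := P.sheaf) ((Scheme.Modules.pushforward ι).obj (Coh.structureModule X))]
    [HasInjectiveResolutions (ModSite.Mod P.sheaf)] :
    Nonempty ((Scheme.Modules.pushforward ι).obj ΩX ≅
      (ModSite.extSh (O := P.sheaf) ((Scheme.Modules.pushforward ι).obj (Coh.structureModule X)) (n - r)).obj ΩP) := by
  haveI : Smooth g := SmoothOfRelativeDimension.smooth n g
  haveI : Smooth (ι ≫ g) := SmoothOfRelativeDimension.smooth r (ι ≫ g)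
  haveI : IsLocallyNoetherian P := LocallyOfFiniteType.isLocallyNoetherian g
  haveI : IsLocallyNoetherian X := LocallyOfFiniteType.isLocallyNoetherian ι
  haveI : HasInjectiveResolutions P.Modules := ‹HasInjectiveResolutions (ModSite.Mod P.sheaf)›
  obtain ⟨hreg, -, hiso⟩ := regularImmersion_and_iso g ι n r ΩP hΩP ΩX hΩX
  obtain ⟨L, hL⟩ := exists_det hreg
  obtain ⟨e⟩ := hiso L hL
  have hcov := FLI.exists_chart hreg
  obtain ⟨c⟩ := nonempty_hom_tensor_iso (FLI.isInvertible_det hL hcov) ΩX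
  obtain ⟨φ₀, hφ⟩ := hL
  let I : InjectiveResolution ΩP := injectiveResolution ΩP
  obtain ⟨a⟩ := FLI.nonempty_iso (I := I) φ₀ hφ hcov
  obtain ⟨b⟩ := ExtShLib.nonempty_extSh_iso I (ExtShLib.pO ι) (n - r)
  exact ⟨(Scheme.Modules.pushforward ι).mapIso (c.symm ≪≫ (PnDualLib.homFun L).mapIso e.symm) ≪≫ a ≪≫ b.symm⟩

end AdjFormLib
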