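import Groth.Agent.AdjFormLib.Smooth

/-!
# The adjunction formula for smooth schemes
-/

set_option autoImplicit false
set_option linter.style.haveILetI false
set_option linter.unusedSectionVars false
set_option maxHeartbeats 1000000
set_option backward.isDefEq.respectTransparency false
set_option backward.isDefEq.respectTransparency.types false
universe u

open CategoryTheory CategoryTheory.Limits AlgebraicGeometry TopologicalSpace Opposite
open DetDegLib (FrameAt)
open DevissLib (gm St)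

noncomputable section

namespace AdjFormLib

/-- **Adjunction formula.** -/
theorem regularImmersion_and_iso {S X Y : Scheme.{u}} (f : X ⟶ S) [QuasiSeparated f] (i : Y ⟶ X)
    [IsClosedImmersion i] (n r : ℕ) [SmoothOfRelativeDimension n f] [SmoothOfRelativeDimension r (i ≫ f)] [QuasiSeparated (i ≫ f)]
    (ωX : X.Modules) (hωX : ExtPow.IsExtPow n (Omega.sheaf f) ωX)
    (ωY : Y.Modules) (hωY : ExtPow.IsExtPow r (Omega.sheaf (i ≫ f)) ωY) :
    RegImm.IsRegularImmersionOfCodim RegImm.Kind.regular (n - r) i ∧ (Nonempty Y → r ≤ n) ∧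
      ∀ (L : Y.Modules), ExtPow.IsExtPow (n - r) (Omega.conormal i) L →
        Nonempty ((Scheme.Modules.pullback i).obj ωX ≅ CohB1.tensorMod ωY L) := by
  haveI : Smooth f := SmoothOfRelativeDimension.smooth n f
  haveI : Smooth (i ≫ f) := SmoothOfRelativeDimension.smooth r (i ≫ f)
  have hd : OmegaSh.IsUniversal (OmegaSh.dOmega f) := OmegaAffLib.isUniversal_dOmega
  have hd' : OmegaSh.IsUniversal (OmegaSh.dOmega (i ≫ f)) := OmegaAffLib.isUniversal_dOmega
  have hΩX := CohCmpLib.rank_omega f n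
  have hΩY := CohCmpLib.rank_omega (i ≫ f) r
  haveI : Coh.IsQCoh (Omega.sheaf f) := (CurvLib.isCoh_of_locFree hΩX).1
  haveI : Coh.IsQCoh (Omega.sheaf (i ≫ f)) := (CurvLib.isCoh_of_locFree hΩY).1
  haveI : Coh.IsQCoh (Omega.conormal i) := FLI.isQCoh_conormal
  obtain ⟨φ, hφ⟩ := ConormalSecLib.exists_conormalDiff i (OmegaSh.dOmega f)
  obtain ⟨ψ, hψ, -⟩ := OmegaAffLib.existsUnique_diffCompat (f' := i ≫ f) (h := i) (b := 𝟙 S)
    (Category.comp_id _) (OmegaSh.dOmega f) hd (OmegaSh.dOmega (i ≫ f))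
  obtain ⟨hepi, heq⟩ := Groth.Agent.S5976.result f i _ _ hd _ _ hd' φ hφ ψ hψ
  have hw : φ ≫ ψ = 0 := by
    have h := (imageSubobject_arrow_comp φ).symm
    have : (imageSubobject φ).arrow ≫ ψ = 0 := by
      rw [← Subobject.ofLE_arrow (X := imageSubobject φ) (Y := kernelSubobject ψ) heq.le, Category.assoc,
        kernelSubobject_arrow_comp, comp_zero]
    rw [h, Category.assoc, this, comp_zero]
  have hex : (ShortComplex.mk φ ψ hw).Exact := (ShortComplex.exact_iff_image_eq_kernel _).2 heq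
  have hex' := fun y => PnDualLib.stalk_exact_of_exact hex y
  have hsurj : ∀ y : Y, Function.Surjective ((St y).map ψ).hom := fun y => by
    haveI : Epi ψ := hepi
    exact (ModuleCat.epi_iff_surjective _).1 inferInstance
  have hcount : ∀ (y : Y) (c m : ℕ) (σ : Fin c ⊕ Fin m ≃ Fin n) (D : Datum i σ φ), i y ∈ D.U.1 →
      c + m = n ∧ m = r := by
    intro y c m σ D hyD
    refine ⟨by simpa using Fintype.card_congr σ, ?_⟩
    obtain ⟨e⟩ := CurvLib.nonempty_stalk_pi_of_locFree hΩY y
    let F : (Fin m → Y.presheaf.stalk y) →ₗ[Y.presheaf.stalk y] (St y).obj (Omega.sheaf (i ≫ f)) :=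
      Fintype.linearCombination (Y.presheaf.stalk y)
        (fun j => (gm (Omega.sheaf (i ≫ f)) y hyD (D.f ψ j) : (St y).obj (Omega.sheaf (i ≫ f))))
    have hF : Function.Bijective F := by
      refine (congrArg Function.Bijective (funext fun v => ?_)).mpr (D.frame_f ψ hex' hsurj hw y hyD)
      exact Fintype.linearCombination_apply _ _ v
    have hm := ((LinearEquiv.ofBijective F hF).trans e).finrank_eq
    rwa [Module.finrank_fin_fun, Module.finrank_fin_fun] at hm
  have hreg : RegImm.IsRegularImmersionOfCodim RegImm.Kind.regular (n - r) i := by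
    refine ⟨inferInstance, fun y => ?_⟩
    obtain ⟨U, rs, hy, hcl, hrs, hker, hc⟩ := exists_chart_smooth f i y
    obtain ⟨m, σ, D, hyD⟩ := exists_datum hd hΩX hφ y hy hc
    obtain ⟨h1, h2⟩ := hcount y _ m σ D hyD
    exact ⟨U, hy, hcl, rs, by omega, hrs, hker⟩
  refine ⟨hreg, fun hne => ?_, fun L hL => ?_⟩
  · obtain ⟨y⟩ := hne
    obtain ⟨U, g, hy, hc⟩ := FLI.exists_chart hreg y
    obtain ⟨m, σ, D, hyD⟩ := exists_datum hd hΩX hφ y hy hc
    obtain ⟨h1, h2⟩ := hcount y _ m σ D hyD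
    omega
  · obtain ⟨φA, hA⟩ := hL
    obtain ⟨φB, hB⟩ := hωX
    obtain ⟨φC, hC⟩ := hωY
    have hle : ∀ y : Y, (n - r) + r = n := fun y => by
      obtain ⟨U, g, hy, hc⟩ := FLI.exists_chart hreg y
      obtain ⟨m, σ, D, hyD⟩ := exists_datum hd hΩX hφ y hy hc
      obtain ⟨h1, h2⟩ := hcount y _ m σ D hyD
      omega
    by_cases hne : Nonempty Y
    · obtain ⟨y₀⟩ := hne
      let σ₀ : Fin (n - r) ⊕ Fin r ≃ Fin n := finSumFinEquiv.trans (finCongr (hle y₀))
      refine nonempty_det_iso (σ := σ₀) ψ hex' hsurj hw φA φB φC hA hB hC fun y => ?_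
      obtain ⟨U, g, hy, hc⟩ := FLI.exists_chart hreg y
      obtain ⟨m, σ, D, hyD⟩ := exists_datum hd hΩX hφ y hy hc
      obtain rfl : m = r := (hcount y _ m σ D hyD).2
      refine ⟨⟨D.U, D.e, fun a => D.b (σ (σ₀.symm a)), D.he, fun x hx => ?_, fun j => ?_⟩, hyD⟩
      · exact frameAt_reindex (σ₀.symm.trans σ) D.b hx (D.hb x hx)
      · rw [D.hφ, Equiv.symm_apply_apply]
    · haveI : IsEmpty Y := not_nonempty_iff.1 hne
      exact ⟨(AmpleThLib.exists_iso_gens (ι := PEmpty.{1}) (fun a => a.elim) (fun a => a.elim) (fun a => a.elim)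
        (fun y => isEmptyElim y) (fun a => a.elim) (fun a => a.elim) fun a => a.elim).choose⟩

end AdjFormLib
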