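import Groth.Agent.DetDegLib.Main
import Groth.Agent.AmpleThLib.Pow
import Groth.Agent.TwistLib.PtApp
import Groth.Agent.GenusZeroLib.PSmooth
import Groth.Agent.GradedCechLib.Chart
import Groth.Agent.OmegaAffLib.General
import Groth.Agent.OmegaAffLib.Universal
import Groth.Agent.CohCmpLib.OmegaRank
import Groth.Agent.PnDualLib.Duality
import Mathlib.LinearAlgebra.Alternating.Uncurry.Fin

/-!
# Top differential forms of projective space
-/

set_option autoImplicit false
set_option linter.style.haveILetI false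
set_option linter.unusedSectionVars false
set_option maxHeartbeats 1000000
set_option backward.isDefEq.respectTransparency false
set_option backward.isDefEq.respectTransparency.types false
universe u v w

open CategoryTheory CategoryTheory.Limits AlgebraicGeometry TopologicalSpace Opposite
open GradedCechLib (deh resO cstOn toSec)
open DetDegLib (FrameAt wsec)

noncomputable section

namespace AdjFormLib

section Cone

variable {A : Type u} [CommRing A] {M : Type v} [AddCommGroup M] [Module A M] {N : Type w} [AddCommGroup N]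
  [Module A N] {n : ℕ}

/-- The form `Σ (-1)ᵖ xₚ ω(m₀, …, m̂ₚ, …, mₙ)` on pairs `(x, m)`. -/
def coneForm (ω : M [⋀^Fin n]→ₗ[A] N) : (A × M) [⋀^Fin (n + 1)]→ₗ[A] N :=
  AlternatingMap.alternatizeUncurryFin ((LinearMap.fst A A M).smulRight (ω.compLinearMap (LinearMap.snd A A M)))

theorem coneForm_apply (ω : M [⋀^Fin n]→ₗ[A] N) (v : Fin (n + 1) → A × M) :
    coneForm ω v = ∑ p : Fin (n + 1), (-1 : ℤ) ^ (p : ℕ) • (v p).1 • ω fun l => (v (p.succAbove l)).2 := by
  rw [coneForm, AlternatingMap.alternatizeUncurryFin_apply]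
  exact Finset.sum_congr rfl fun p _ => rfl

theorem coneForm_apex (ω : M [⋀^Fin n]→ₗ[A] N) (t : Fin (n + 1) → A) (dt : Fin (n + 1) → M) (a : Fin (n + 1))
    (ht : t a = 1) (hdt : dt a = 0) :
    coneForm ω (fun j => (t j, dt j)) = (-1 : ℤ) ^ (a : ℕ) • ω fun l => dt (a.succAbove l) := by
  rw [coneForm_apply, Finset.sum_eq_single a]
  · show _ • t a • _ = _
    rw [ht, one_smul]
  · intro p _ hp
    obtain ⟨l, hl⟩ := Fin.exists_succAbove_eq (Ne.symm hp)
    have h0 : (ω fun l' => dt (p.succAbove l')) = 0 := ω.map_coord_zero l (by rw [hl]; exact hdt)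
    show _ • t p • _ = 0
    rw [h0, smul_zero, smul_zero]
  · exact fun h => (h (Finset.mem_univ a)).elim

/-- Rescaling the coordinates rescales the cone form by a power. -/
theorem coneForm_scale (B : Module.Basis (Fin n) A M) (ω : M [⋀^Fin n]→ₗ[A] N) (v : Fin (n + 1) → A × M) (s : A)
    (ds : M) : coneForm ω (fun j => (s * (v j).1, s • (v j).2 + (v j).1 • ds)) = s ^ (n + 1) • coneForm ω v := by
  let T : (A × M) →ₗ[A] (A × M) :=
    (s • LinearMap.fst A A M).prod (s • LinearMap.snd A A M + (LinearMap.fst A A M).smulRight ds)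
  let e : (A × M) ≃ₗ[A] (Fin (n + 1) → A) :=
    ((LinearEquiv.refl A A).prodCongr B.equivFun).trans (Fin.consLinearEquiv A fun _ : Fin (n + 1) => A)
  let B' : Module.Basis (Fin (n + 1)) A (A × M) := Module.Basis.ofEquivFun e
  have hB' : ∀ j, B' j = e.symm (Pi.single j 1) := fun j => congrFun (Module.Basis.coe_ofEquivFun e) j
  have h0 : B' 0 = (1, 0) := by
    rw [hB', LinearEquiv.symm_apply_eq]
    ext j
    refine Fin.cases ?_ (fun l => ?_) j <;> simp [e, Fin.consLinearEquiv, Fin.succ_ne_zero]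
  have hs : ∀ l : Fin n, B' l.succ = (0, B l) := fun l => by
    rw [hB', LinearEquiv.symm_apply_eq]
    ext j
    refine Fin.cases ?_ (fun l' => ?_) j <;>
      simp [e, Fin.consLinearEquiv, (Fin.succ_ne_zero _).symm, Pi.single_apply, Finsupp.single_apply, eq_comm]
  have hval : ((coneForm ω).compLinearMap T) B' = (s ^ (n + 1) • coneForm ω) B' := by
    rw [AlternatingMap.compLinearMap_apply, AlternatingMap.smul_apply, coneForm_apply, coneForm_apply,
      Fin.sum_univ_succ, Fin.sum_univ_succ]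
    have hz : ∀ p : Fin n, (T (B' p.succ)).1 = 0 := fun p => by rw [hs]; simp [T]
    have hz' : ∀ p : Fin n, (B' p.succ).1 = 0 := fun p => by rw [hs]
    simp only [hz, hz', zero_smul, smul_zero, Finset.sum_const_zero, add_zero, Fin.val_zero, pow_zero, one_smul,
      Fin.succAbove_zero]
    have e1 : (fun l : Fin n => (T (B' l.succ)).2) = fun l => s • B l := funext fun l => by rw [hs]; simp [T]
    have e2 : (fun l : Fin n => (B' l.succ).2) = B := funext fun l => by rw [hs]
    rw [e1, e2, h0, show (T (1, 0)).1 = s by simp [T]]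
    rw [show (fun l => s • B l) = fun l => (fun _ : Fin n => s) l • B l from rfl]
    rw [show (ω fun l => (fun _ : Fin n => s) l • B l) = (∏ _l : Fin n, s) • ω B from
      ω.toMultilinearMap.map_smul_univ _ _]
    rw [Finset.prod_const, Finset.card_univ, Fintype.card_fin, one_smul, smul_smul, ← pow_succ']
  have key := (DetDegLib.alt_eq B' ((coneForm ω).compLinearMap T) v).trans
    ((congrArg (B'.det v • ·) hval).trans (DetDegLib.alt_eq B' (s ^ (n + 1) • coneForm ω) v).symm)
  exact key

end Cone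

section Chart

variable (n : ℕ) (R : Type u) [CommRing R]

/-- The structure of functions on a chart. -/
theorem cstOn_eq (a : Fin (n + 1)) (h : QCohLib.stdOpen n R a ≤ CohB1.ProjSpace.toSpec n R ⁻¹ᵁ ⊤) (r : R) :
    cstOn n R (QCohLib.stdOpen n R a) r =
      (CohB1.ProjSpace.toSpec n R).appLE ⊤ (QCohLib.stdOpen n R a) h ((Scheme.ΓSpecIso (CommRingCat.of R)).inv r) := by
  rfl

/-- The coordinates generate the differentials on a chart. -/
theorem span_d (Ω : (CohB1.ProjSpace n R).Modules) {d : OmegaSh.Der (CohB1.ProjSpace.toSpec n R) Ω}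
    (hd : OmegaSh.IsUniversal d) (a : Fin (n + 1)) :
    Submodule.span Γ(CohB1.ProjSpace n R, QCohLib.stdOpen n R a)
      (Set.range fun l : Fin n => d.app (QCohLib.stdOpen n R a) (deh n R a (MvPolynomial.X (a.succAbove l)))) = ⊤ := by
  let P := CohB1.ProjSpace n R
  let U := QCohLib.stdOpen n R a
  have hU : IsAffineOpen U := by
    simpa [U, Finset.inf_singleton] using QCohLib.isAffineOpen_inf_stdOpen n R {a} ⟨a, Finset.mem_singleton_self a⟩
  have h : U ≤ CohB1.ProjSpace.toSpec n R ⁻¹ᵁ ⊤ := le_top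
  let A := Γ(Spec (CommRingCat.of R), ⊤)
  letI : Algebra A Γ(P, U) := ((CohB1.ProjSpace.toSpec n R).appLE ⊤ U h).hom.toAlgebra
  obtain ⟨e, he⟩ := OmegaAffLib.exists_equiv hd (isAffineOpen_top _) hU h
  let t : Fin n → Γ(P, U) := fun l => deh n R a (MvPolynomial.X (a.succAbove l))
  have hadj : Algebra.adjoin A (Set.range t) = ⊤ := by
    refine eq_top_iff.2 fun b _ => ?_
    obtain ⟨p, rfl⟩ := GradedCechLib.deh_surjective n R a b
    induction p using MvPolynomial.induction_on with
    | C r =>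
      rw [GradedCechLib.deh_C, cstOn_eq n R a h]
      exact Subalgebra.algebraMap_mem _ _
    | add p q hp hq => rw [map_add]; exact add_mem (hp trivial) (hq trivial)
    | mul_X p j hp =>
      rw [map_mul]
      refine mul_mem (hp trivial) ?_
      rcases Fin.eq_self_or_eq_succAbove a j with rfl | ⟨l, rfl⟩
      · rw [GradedCechLib.deh_X_self]; exact one_mem _
      · exact Algebra.subset_adjoin ⟨l, rfl⟩
  let S : Submodule Γ(P, U) Γ(Ω, U) := Submodule.span Γ(P, U) (Set.range fun l => d.app U (t l))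
  have hD : ∀ b : Γ(P, U), d.app U b ∈ S := by
    intro b
    have hb : b ∈ Algebra.adjoin A (Set.range t) := hadj ▸ trivial
    induction hb using Algebra.adjoin_induction with
    | mem x hx =>
      obtain ⟨l, rfl⟩ := hx
      exact Submodule.subset_span ⟨l, rfl⟩
    | algebraMap r =>
      rw [show d.app U (algebraMap A Γ(P, U) r) = 0 from OmegaAffLib.der_appLE d ⊤ U h r]
      exact zero_mem _
    | add x y _ _ hx hy => rw [map_add]; exact add_mem hx hy
    | mul x y _ _ hx hy =>
      rw [OmegaAffLib.der_mul]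
      exact add_mem (Submodule.smul_mem _ _ hy) (Submodule.smul_mem _ _ hx)
  refine eq_top_iff.2 fun x _ => ?_
  obtain ⟨w, rfl⟩ := e.surjective x
  have hw : w ∈ Submodule.span Γ(P, U) (Set.range (KaehlerDifferential.D A Γ(P, U))) := by
    rw [KaehlerDifferential.span_range_derivation]; trivial
  clear * - hw hD he
  induction hw using Submodule.span_induction with
  | mem y hy => obtain ⟨b, rfl⟩ := hy; rw [he]; exact hD b
  | zero => rw [map_zero]; exact zero_mem _
  | add y z _ _ hy hz => rw [map_add]; exact add_mem hy hz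
  | smul c y _ hy => rw [map_smul]; exact Submodule.smul_mem _ _ hy

/-- The coordinates give a frame of the differentials on a chart. -/
theorem frame_d (Ω : (CohB1.ProjSpace n R).Modules) {d : OmegaSh.Der (CohB1.ProjSpace.toSpec n R) Ω}
    (hd : OmegaSh.IsUniversal d) (hΩ : FlatMod.IsFinLocFreeOfRank n Ω) (a : Fin (n + 1))
    (x : CohB1.ProjSpace n R) (hx : x ∈ QCohLib.stdOpen n R a) :
    FrameAt Ω (fun l : Fin n => d.app (QCohLib.stdOpen n R a) (deh n R a (MvPolynomial.X (a.succAbove l)))) hx := by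
  have hU : IsAffineOpen (QCohLib.stdOpen n R a) := by
    simpa [Finset.inf_singleton] using QCohLib.isAffineOpen_inf_stdOpen n R {a} ⟨a, Finset.mem_singleton_self a⟩
  refine DetDegLib.frameAt_of_denoms hΩ hU _ hx fun m => ⟨1, ?_, ?_⟩
  · exact fun h1 => (hU.primeIdealOf ⟨x, hx⟩).isPrime.ne_top ((Ideal.eq_top_iff_one _).2 h1)
  · rw [span_d n R Ω hd a]; trivial

/-- The generator of `O(-n-1)` on a chart. -/
def invPow (a : Fin (n + 1)) :
    TwistLib.Unit' (CohB1.polyGrading n R) (-((n : ℤ) + 1)) (QCohLib.stdOpen n R a) where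
  i := 0
  j := n + 1
  num := 1
  den := MvPolynomial.X a ^ (n + 1)
  num_mem := SetLike.GradedOne.one_mem
  den_mem := by simpa using SetLike.pow_mem_graded (n + 1) (GradedCechLib.X_mem n R a)
  deg := by push_cast; ring
  num_nin x h := x.1.isPrime.ne_top ((Ideal.eq_top_iff_one _).mpr h)
  den_nin x h := x.2 (x.1.isPrime.mem_of_pow_mem (n + 1) h)

theorem invPow_transition (a b : Fin (n + 1)) {V : (CohB1.ProjSpace n R).Opens}
    (ha : V ≤ QCohLib.stdOpen n R a) (hb : V ≤ QCohLib.stdOpen n R b) :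
    (resO n R hb (deh n R b (MvPolynomial.X a)) ^ (n + 1)) •
        AmpleLib.res (Twist.twistProjSpace n R (-((n : ℤ) + 1))) ha (invPow n R a).sec =
      AmpleLib.res (Twist.twistProjSpace n R (-((n : ℤ) + 1))) hb (invPow n R b).sec := by
  classical
  refine TwistLib.sec_ext fun x => ?_
  erw [TwistLib.val_smul, TwistLib.val_res, TwistLib.val_res, TwistLib.val_fracSec, TwistLib.val_fracSec]
  have e : ((show Twist.O (op V) from resO n R hb (deh n R b (MvPolynomial.X a))).1 x).val =
      Localization.mk (MvPolynomial.X a) ⟨MvPolynomial.X b, hb x.2⟩ := by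
    show ((show Twist.O (op (QCohLib.stdOpen n R b)) from deh n R b (MvPolynomial.X a)).1 ⟨x.1, hb x.2⟩).val = _
    rw [GradedCechLib.deh, RingHom.comp_apply, GradedCechLib.deh₀_X, GradedCechLib.toSec]
    erw [ProjectiveSpectrum.Proj.awayToSection_apply]
    rw [HomogeneousLocalization.Away.val_mk, Localization.mk_eq_mk', IsLocalization.map_mk']
    change IsLocalization.mk' (Twist.Loc (CohB1.polyGrading n R) x.1) (MvPolynomial.X a) _ = _
    rw [← Localization.mk_eq_mk', Localization.mk_eq_mk_iff, Localization.r_iff_exists]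
    exact ⟨1, by simp⟩
  let ev : Γ(CohB1.ProjSpace n R, V) →+* Twist.Loc (CohB1.polyGrading n R) x.1 :=
    { toFun := fun r => ((show Twist.O (op V) from r).1 x).val
      map_one' := HomogeneousLocalization.val_one
      map_mul' := fun _ _ => HomogeneousLocalization.val_mul _ _
      map_zero' := HomogeneousLocalization.val_zero
      map_add' := fun _ _ => HomogeneousLocalization.val_add _ _ }
  change ev (resO n R hb (deh n R b (MvPolynomial.X a)) ^ (n + 1)) * _ = _
  rw [map_pow, show ev (resO n R hb (deh n R b (MvPolynomial.X a))) = _ from e, Localization.mk_pow,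
    Localization.mk_mul, Localization.mk_eq_mk_iff, Localization.r_iff_exists]
  exact ⟨1, by simp [invPow]⟩

/-- **The canonical sheaf of projective space.** -/
theorem nonempty_top_iso_twist [QuasiSeparated (CohB1.ProjSpace.toSpec n R)]
    [SmoothOfRelativeDimension n (CohB1.ProjSpace.toSpec n R)] (L : (CohB1.ProjSpace n R).Modules)
    (hL : ExtPow.IsExtPow n (Omega.sheaf (CohB1.ProjSpace.toSpec n R)) L) :
    Nonempty (L ≅ Twist.twistProjSpace n R (-((n : ℤ) + 1))) := by
  let P := CohB1.ProjSpace n R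
  let Ω := Omega.sheaf (CohB1.ProjSpace.toSpec n R)
  have hd : OmegaSh.IsUniversal (OmegaSh.dOmega (CohB1.ProjSpace.toSpec n R)) := OmegaAffLib.isUniversal_dOmega
  have hΩ : FlatMod.IsFinLocFreeOfRank n Ω := CohCmpLib.rank_omega _ n
  haveI : Coh.IsQCoh Ω := (CurvLib.isCoh_of_locFree hΩ).1
  let d := OmegaSh.dOmega (CohB1.ProjSpace.toSpec n R)
  obtain ⟨φ, hφ⟩ := hL
  have hU : ∀ s : Finset (Fin (n + 1)), s.Nonempty → IsAffineOpen (s.inf (QCohLib.stdOpen n R)) :=
    QCohLib.isAffineOpen_inf_stdOpen n R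
  let U : Fin (n + 1) → P.affineOpens := fun a =>
    ⟨QCohLib.stdOpen n R a, show IsAffineOpen (QCohLib.stdOpen n R a) by
      simpa [Finset.inf_singleton] using hU {a} ⟨a, Finset.mem_singleton_self a⟩⟩
  let t : ∀ a, Fin (n + 1) → Γ(P, (U a).1) := fun a j => deh n R a (MvPolynomial.X j)
  let w : ∀ a, Fin n → Γ(Ω, (U a).1) := fun a l => d.app (U a).1 (t a (a.succAbove l))
  let gL : ∀ a, Γ(L, (U a).1) := fun a => (-1 : Γ(P, (U a).1)) ^ (a : ℕ) • wsec φ (U a) (w a)
  have hgL : ∀ a, AmpleLib.GenOn L (gL a) := fun a => TwistLib.genOn_of_genAt fun x hx => by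
    refine (AmpleLib.genAt_smul_iff _ _ hx (DetDegLib.frameAt_wsec φ hφ (U a) (w a)
      (fun y hy => frame_d n R Ω hd hΩ a y hy) hx)).2 ?_
    exact ((Scheme.basicOpen_of_isUnit P (isUnit_one.neg.pow (a : ℕ))).symm ▸ hx :
      x ∈ P.basicOpen ((-1 : Γ(P, (U a).1)) ^ (a : ℕ)))
  have hcov : ∀ x : P, ∃ a, x ∈ (U a).1 := fun x =>
    Opens.mem_iSup.1 (show x ∈ ⨆ a, QCohLib.stdOpen n R a by rw [QCohLib.iSup_stdOpen]; trivial)
  refine ⟨(AmpleThLib.exists_iso_gens (fun a => (U a).1) gL (fun a => (invPow n R a).sec) hcov hgL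
    (fun a => (invPow n R a).genOn) fun a b V ha hb => ?_).choose⟩
  refine ⟨resO n R hb (t b a) ^ (n + 1), ?_, invPow_transition n R a b ha hb⟩
  have hab : IsAffineOpen ((U a).1 ⊓ (U b).1) := by
    simpa [U] using hU {a, b} ⟨a, by simp⟩
  let W : P.affineOpens := ⟨(U a).1 ⊓ (U b).1, hab⟩
  have hWa : W.1 ≤ (U a).1 := inf_le_left
  have hWb : W.1 ≤ (U b).1 := inf_le_right
  suffices hW : resO n R hWb (t b a) ^ (n + 1) • AmpleLib.res L hWa (gL a) = AmpleLib.res L hWb (gL b) by
    have hVW : V ≤ W.1 := le_inf ha hb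
    have h1 := congrArg (AmpleLib.res L hVW) hW
    rw [AmpleLib.res_smul, AmpleLib.res_res, AmpleLib.res_res] at h1
    refine Eq.trans (congrArg (· • AmpleLib.res L ha (gL a)) ?_) h1
    exact (congrArg (· ^ (n + 1)) (GradedCechLib.resO_resO n R hWb hVW (t b a)).symm).trans
      (map_pow (resO n R hVW) _ _).symm
  have hsign : ∀ (c : Fin (n + 1)) (hWc : W.1 ≤ (U c).1), AmpleLib.res L hWc (gL c) =
      (φ W).symm ((-1 : Γ(P, W.1)) ^ (c : ℕ) • exteriorPower.ιMulti Γ(P, W.1) n (M := Ω.val.obj (op W.1))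
        fun l => d.app W.1 (resO n R hWc (t c (c.succAbove l)))) := fun c hWc => by
    rw [AmpleLib.res_smul, map_pow, map_neg, map_one, map_smul]
    refine congrArg _ ((DetDegLib.wsec_res φ hφ (U c) W hWc (w c)).trans ?_)
    exact congrArg (wsec φ W) (funext fun l => (OmegaAffLib.der_rs d hWc _).symm)
  let B : Module.Basis (Fin n) Γ(P, W.1) (Ω.val.obj (op W.1)) :=
    Module.Basis.ofEquivFun (LinearEquiv.ofBijective
      (Fintype.linearCombination Γ(P, W.1) (M := Ω.val.obj (op W.1)) fun l => Ω.presheaf.map (homOfLE hWa).op (w a l))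
      (DetDegLib.frame_bijective W.2 (fun l => Ω.presheaf.map (homOfLE hWa).op (w a l)) fun y hy =>
        (DetDegLib.frameAt_res hWa _ hy).2 (frame_d n R Ω hd hΩ a y (hWa hy)))).symm
  let ω := exteriorPower.ιMulti Γ(P, W.1) n (M := Ω.val.obj (op W.1))
  let x : ∀ c, W.1 ≤ (U c).1 → Fin (n + 1) → Γ(P, W.1) := fun c hWc j => resO n R hWc (t c j)
  let dW : Γ(P, W.1) → Ω.val.obj (op W.1) := fun r => d.app W.1 r
  have hx1 : ∀ c hWc, x c hWc c = 1 := fun c hWc =>
    (congrArg (resO n R hWc) (GradedCechLib.deh_X_self n R c)).trans (map_one _)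
  have hd1 : ∀ c hWc, dW (x c hWc c) = 0 := fun c hWc => by
    rw [hx1]
    have h := OmegaAffLib.der_mul d W.1 1 1
    rw [mul_one, one_smul] at h
    simpa [dW] using h
  have hcone : ∀ c hWc, coneForm ω (fun j => (x c hWc j, dW (x c hWc j))) =
      ((-1 : Γ(P, W.1)) ^ (c : ℕ)) • ω fun l => dW (x c hWc (c.succAbove l)) := fun c hWc => by
    rw [coneForm_apex ω (x c hWc) (fun j => dW (x c hWc j)) c (hx1 c hWc) (hd1 c hWc), ← Int.cast_smul_eq_zsmul Γ(P, W.1)]
    push_cast
    rfl
  let s : Γ(P, W.1) := resO n R hWb (t b a)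
  have hu : ∀ j, x b hWb j = s * x a hWa j := fun j => by
    refine (GradedCechLib.resO_deh_X n R b a j hWb hWa).trans ?_
    exact mul_comm _ _
  have main : coneForm ω (fun j => (x b hWb j, dW (x b hWb j))) =
      s ^ (n + 1) • coneForm ω (fun j => (x a hWa j, dW (x a hWa j))) := by
    rw [← coneForm_scale B ω (fun j => (x a hWa j, dW (x a hWa j))) s (dW s)]
    refine congrArg (coneForm ω) (funext fun j => ?_)
    rw [hu]
    exact Prod.ext rfl (OmegaAffLib.der_mul d W.1 _ _)
  rw [hcone, hcone] at main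
  rw [hsign a hWa, hsign b hWb]
  exact ((φ W).symm.map_smul _ _).symm.trans (congrArg (φ W).symm main.symm)

end Chart

end AdjFormLib
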