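import Groth.Agent.AdjFormLib.Det
import Groth.Agent.FLILib.Conormal
import Groth.Agent.RegImmKindLib.Mor
import Groth.Agent.KoszAtLib.Basic
import Groth.Agent.QSecLib.Scheme
import Groth.Agent.S5976
import Groth.Agent.CohCmpLib.OmegaRank
import Groth.Agent.OmegaAffLib.General
import Groth.Agent.OmegaAffLib.Universal
import Groth.Agent.OmegaAffLib.DiffCompat
import Mathlib.RingTheory.Smooth.Kaehler
import Mathlib.RingTheory.LocalRing.ResidueField.Ideal

/-!
# Closed immersions of smooth schemes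
-/

set_option autoImplicit false
set_option linter.style.haveILetI false
set_option linter.unusedSectionVars false
set_option maxHeartbeats 1000000
set_option backward.isDefEq.respectTransparency false
set_option backward.isDefEq.respectTransparency.types false
universe u

open CategoryTheory CategoryTheory.Limits AlgebraicGeometry TopologicalSpace Opposite
open DetDegLib (FrameAt)
open DevissLib (gm St)
open scoped TensorProduct

noncomputable section

namespace AdjFormLib

/-- Independent vectors complete to a basis by unit vectors. -/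
theorem exists_completion (K : Type*) [Field K] {c n : ℕ} (v : Fin c → Fin n → K)
    (hv : LinearIndependent K v) :
    ∃ (m : ℕ) (k : Fin m → Fin n) (σ : Fin c ⊕ Fin m ≃ Fin n), LinearIndependent K
      fun j => Sum.elim v (fun p => (Pi.single (k p) 1 : Fin n → K)) (σ.symm j) := by
  classical
  let W := Submodule.span K (Set.range v)
  let e : Fin n → Fin n → K := fun j => Pi.single j 1
  obtain ⟨κ, a, ha, hspan, hli⟩ := exists_linearIndependent' K (W.mkQ ∘ e)
  haveI : Finite κ := Finite.of_injective a ha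
  obtain ⟨m, ⟨ε⟩⟩ := Finite.exists_equiv_fin κ
  let k : Fin m → Fin n := a ∘ ε.symm
  let w : Fin c ⊕ Fin m → Fin n → K := Sum.elim v fun p => Pi.single (k p) 1
  have hw : LinearIndependent K w := by
    rw [Fintype.linearIndependent_iff]
    intro g hg
    rw [Fintype.sum_sum_type] at hg
    have h1 : ∑ p, g (Sum.inr p) • (W.mkQ ∘ e ∘ k) p = 0 := by
      have := congrArg W.mkQ hg
      rw [map_add, map_zero, map_sum, map_sum] at this
      rw [Finset.sum_eq_zero fun j _ => ?_, zero_add] at this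
      · simpa [w, e, k] using this
      · rw [map_smul, show W.mkQ (w (Sum.inl j)) = 0 from
          (Submodule.Quotient.mk_eq_zero W).2 (Submodule.subset_span ⟨j, rfl⟩), smul_zero]
    have h2 : ∀ p, g (Sum.inr p) = 0 :=
      Fintype.linearIndependent_iff.1 (hli.comp ε.symm ε.symm.injective) _ h1
    simp only [h2, zero_smul, Finset.sum_const_zero, add_zero] at hg
    rintro (j | p)
    · exact Fintype.linearIndependent_iff.1 hv _ hg j
    · exact h2 p
  have htop : ⊤ ≤ Submodule.span K (Set.range w) := by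
    have hW : W ≤ Submodule.span K (Set.range w) :=
      Submodule.span_mono (Set.range_subset_iff.2 fun j => ⟨Sum.inl j, rfl⟩)
    intro x _
    have hx : W.mkQ x ∈ Submodule.span K (Set.range (W.mkQ ∘ e ∘ k)) := by
      rw [show W.mkQ ∘ e ∘ k = (W.mkQ ∘ e ∘ a) ∘ ε.symm from rfl, ε.symm.surjective.range_comp,
        show W.mkQ ∘ e ∘ a = (W.mkQ ∘ e) ∘ a from rfl, hspan, Set.range_comp, Submodule.span_image,
        show Submodule.span K (Set.range e) = ⊤ from by
          rw [← (Pi.basisFun K (Fin n)).span_eq]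
          congr 1
          ext
          simp [e, Pi.basisFun_apply]]
      exact ⟨x, trivial, rfl⟩
    rw [Set.range_comp W.mkQ (e ∘ k), Submodule.span_image] at hx
    obtain ⟨y, hy, hyx⟩ := hx
    have hy' : y ∈ Submodule.span K (Set.range w) :=
      Submodule.span_mono (show Set.range (e ∘ k) ⊆ Set.range w from Set.range_subset_iff.2 fun p => ⟨Sum.inr p, rfl⟩) hy
    have hd : x - y ∈ W := by
      rw [← Submodule.Quotient.eq]
      exact hyx.symm
    simpa using add_mem (hW hd) hy'
  let B := Module.Basis.mk hw htop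
  let σ : Fin c ⊕ Fin m ≃ Fin n := B.indexEquiv (Pi.basisFun K (Fin n))
  exact ⟨m, k, σ, hw.comp _ σ.symm.injective⟩

/-- The differentials of a regular family generating the ideal of a smooth quotient are independent modulo every
prime containing the ideal. -/
theorem mem_of_sum_D_mem {A B C : Type u} [CommRing A] [CommRing B] [CommRing C] [Algebra A B] [Algebra A C]
    [Algebra B C] [IsScalarTower A B C] [Algebra.FormallySmooth A B] [Algebra.FormallySmooth A C]
    (hs : Function.Surjective (algebraMap B C)) {c : ℕ} (g : Fin c → B) (hg : FLI.WReg g)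
    (hI : RingHom.ker (algebraMap B C) = Ideal.span (Set.range g)) (p : Ideal B)
    (hp : RingHom.ker (algebraMap B C) ≤ p) (a : Fin c → B)
    (ha : ∑ j, a j • KaehlerDifferential.D A B (g j) ∈ p • (⊤ : Submodule B Ω[B⁄A])) : ∀ j, a j ∈ p := by
  obtain ⟨l, hl⟩ := (Algebra.FormallySmooth.iff_split_injection (R := A) (P := B) hs).1 inferInstance
  let I := RingHom.ker (algebraMap B C)
  let L : Ω[B⁄A] →ₗ[B] I.Cotangent := l ∘ₗ TensorProduct.mk B C Ω[B⁄A] 1
  have hgI : ∀ j, g j ∈ I := fun j => by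
    show g j ∈ RingHom.ker (algebraMap B C)
    rw [hI]
    exact Ideal.subset_span ⟨j, rfl⟩
  have hL : ∀ j, L (KaehlerDifferential.D A B (g j)) = I.toCotangent ⟨g j, hgI j⟩ := fun j =>
    (congrArg l (KaehlerDifferential.kerCotangentToTensor_toCotangent A B C ⟨g j, hgI j⟩).symm).trans
      (LinearMap.congr_fun hl (I.toCotangent ⟨g j, hgI j⟩))
  have h1 : L (∑ j, a j • KaehlerDifferential.D A B (g j)) ∈ p • (⊤ : Submodule B I.Cotangent) := by
    have h0 := Submodule.mem_map_of_mem (f := L) ha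
    rw [Submodule.map_smul''] at h0
    exact Submodule.smul_mono le_rfl le_top h0
  let s : I := ⟨∑ j, a j * g j, sum_mem fun j _ => Ideal.mul_mem_left _ _ (hgI j)⟩
  have h2 : L (∑ j, a j • KaehlerDifferential.D A B (g j)) = I.toCotangent s := by
    have : s = ∑ j, a j • (⟨g j, hgI j⟩ : I) := Subtype.ext (by simp [s])
    rw [this, map_sum, map_sum]
    exact Finset.sum_congr rfl fun j _ => by rw [map_smul, map_smul, hL]
  rw [h2, ← LinearMap.range_eq_top.2 I.toCotangent_surjective, LinearMap.range_eq_map, ← Submodule.map_smul''] at h1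
  obtain ⟨t, ht, hts⟩ := h1
  have h3 : (t : B) ∈ p * I := by
    refine Submodule.smul_induction_on ht (fun q hq x _ => ?_) fun x y hx hy => add_mem hx hy
    exact Ideal.mul_mem_mul hq x.2
  rw [Ideal.toCotangent_eq, pow_two] at hts
  obtain ⟨q, hq, e⟩ : ∃ q : Fin c → B, (∀ j, q j ∈ p) ∧ (t : B) = ∑ j, q j * g j := by
    rw [show p * I = p • Ideal.span (Set.range g) from (congrArg (p * ·) hI).trans (smul_eq_mul p _).symm,
      Submodule.mem_ideal_smul_span_iff_exists_sum] at h3
    obtain ⟨b, hb, hbs⟩ := h3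
    refine ⟨fun j => b j, hb, ?_⟩
    rw [← hbs, Finsupp.sum_fintype b (fun i a => a • g i) (fun i => zero_smul B (g i))]
    rfl
  have h4 : ∑ j, (q j - a j) * g j ∈ Ideal.span (Set.range g) * Ideal.span (Set.range g) := by
    rw [← hI]
    simp only [sub_mul, Finset.sum_sub_distrib, ← e]
    exact hts
  intro j
  have h5 := hg.mem_of_sum_mem_sq _ h4 j
  rw [← hI] at h5
  simpa using sub_mem (hq j) (hp h5)

/-- Independence over the residue field. -/
theorem linearIndependent_residue {B : Type u} [CommRing B] (p : Ideal B) [p.IsPrime] {c n : ℕ}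
    (J : Fin c → Fin n → B) (h : ∀ a : Fin c → B, (∀ k, ∑ j, a j * J j k ∈ p) → ∀ j, a j ∈ p) :
    LinearIndependent p.ResidueField fun j k => algebraMap B p.ResidueField (J j k) := by
  rw [Fintype.linearIndependent_iff]
  intro q hq
  obtain ⟨⟨s, hs⟩, a, ha⟩ : ∃ (s : p.primeCompl) (a : Fin c → B),
      ∀ j, algebraMap B p.ResidueField (a j) = algebraMap B p.ResidueField s * q j := by
    choose x hx using fun j => IsLocalRing.residue_surjective (R := Localization.AtPrime p) (q j)
    obtain ⟨s, hs⟩ := IsLocalization.exist_integer_multiples_of_finite p.primeCompl x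
    choose a ha using hs
    refine ⟨s, a, fun j => ?_⟩
    rw [← hx j, IsScalarTower.algebraMap_apply B (Localization.AtPrime p) p.ResidueField, ha j,
      Algebra.smul_def, map_mul, ← IsScalarTower.algebraMap_apply]
    rfl
  have h1 := h a fun k => by
    rw [← Ideal.algebraMap_residueField_eq_zero, map_sum]
    have := congrFun hq k
    simp only [Finset.sum_apply, Pi.smul_apply, smul_eq_mul, Pi.zero_apply] at this
    rw [← mul_zero (algebraMap B p.ResidueField s), ← this, Finset.mul_sum]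
    exact Finset.sum_congr rfl fun j _ => by rw [map_mul, ha, mul_assoc]
  intro j
  have h2 := ha j
  rw [Ideal.algebraMap_residueField_eq_zero.2 (h1 j)] at h2
  exact (mul_eq_zero.1 h2.symm).resolve_left fun e => hs (Ideal.algebraMap_residueField_eq_zero.1 e)

/-- A closed immersion of a smooth scheme in a smooth scheme is, near each point, cut out by a regular sequence. -/
theorem exists_chart_smooth {S X Y : Scheme.{u}} (f : X ⟶ S) [Smooth f] (i : Y ⟶ X)
    [IsClosedImmersion i] [Smooth (i ≫ f)] (y : Y) :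
    ∃ (U : X.affineOpens) (rs : List Γ(X, U.1)), i y ∈ U.1 ∧ IsClosedImmersion (i ∣_ U.1) ∧
      RegImm.Kind.regular.Seq Γ(X, U.1) rs ∧ RingHom.ker (i.app U.1).hom = Ideal.ofList rs ∧
      FLI.IsChart i U rs.get := by
  have hrel : RegImm.IsRelRegularImmersion RegImm.Kind.quasi f i :=
    ⟨⟨inferInstance, fun w => QSecLib.quasi_of_mem_smoothLocus f i w (by rw [f.smoothLocus_eq_top]; trivial)⟩,
      inferInstance⟩
  obtain ⟨U, hy, hcl, rs, hrs, hker⟩ := RelQRegLib.regular_of_quasi f i hrel y (Flat.stalkMap f _)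
  refine ⟨U, rs, hy, hcl, hrs, hker, ?_, FLI.wReg_of_isWeaklyRegular rs hrs.toIsWeaklyRegular rfl⟩
  rw [Scheme.Hom.ker_apply, hker, Ideal.ofList, Set.range_list_get]

/-- Reindexed frames are frames. -/
theorem frameAt_reindex {X : Scheme.{u}} {M : X.Modules} {n : ℕ} (π : Fin n ≃ Fin n) {U : X.Opens}
    (e : Fin n → Γ(M, U)) {x : X} (hx : x ∈ U) (he : FrameAt M e hx) : FrameAt M (fun a => e (π a)) hx := by
  refine (congrArg Function.Bijective (funext fun v => ?_)).mpr (he.comp (π.arrowCongr (Equiv.refl _)).bijective)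
  refine ((π.sum_comp fun a => v (π.symm a) • gm M x hx (e a)).symm.trans ?_).symm
  exact Finset.sum_congr rfl fun a _ => congrArg (· • gm M x hx (e (π a))) (congrArg v (π.symm_apply_apply a))

section Datum

variable {S X Y : Scheme.{u}} {f : X ⟶ S} [Smooth f] [QuasiSeparated f] {i : Y ⟶ X}
  [IsClosedImmersion i] [Smooth (i ≫ f)] {Ω : X.Modules} {d : OmegaSh.Der f Ω} (hd : OmegaSh.IsUniversal d) {n : ℕ}
  (hΩ : FlatMod.IsFinLocFreeOfRank n Ω) {φ : Omega.conormal i ⟶ (Scheme.Modules.pullback i).obj Ω}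
  (hφ : OmegaSh.IsConormalDiff i d φ)

include hd hΩ hφ in
/-- Adapted frames near a point of a smooth closed subscheme. -/
theorem exists_datum (y : Y) {c : ℕ} {U₀ : X.affineOpens} {g₀ : Fin c → Γ(X, U₀.1)} (hy₀ : i y ∈ U₀.1)
    (h₀ : FLI.IsChart i U₀ g₀) :
    ∃ (m : ℕ) (σ : Fin c ⊕ Fin m ≃ Fin n) (D : Datum i σ φ), i y ∈ D.U.1 := by
  haveI : Coh.IsQCoh Ω := (CurvLib.isCoh_of_locFree hΩ).1
  obtain ⟨U₁, n', w₀, hy₁, hw₀'⟩ := ProjFormLib.exists_frame (E := Ω) (fun x => by
    obtain ⟨O, hO, hiso⟩ := hΩ x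
    exact ⟨O, n, hO, hiso⟩) (i y)
  have hn' : n' = n := by
    obtain ⟨E⟩ := CurvLib.nonempty_stalk_pi_of_locFree hΩ (i y)
    have hm := ((LinearEquiv.ofBijective _ (hw₀' (i y) hy₁)).trans E).finrank_eq
    rwa [Module.finrank_fin_fun, Module.finrank_fin_fun] at hm
  subst n'
  have hq : ∀ (x : X) (hx : x ∈ U₁), FrameAt Ω w₀ hx := fun x hx => by
    refine (congrArg Function.Bijective (funext fun v => ?_)).mp (hw₀' x hx)
    exact Fintype.linearCombination_apply _ _ v
  obtain ⟨V, hV, hyV, -⟩ := exists_isAffineOpen_mem_and_subset (x := f (i y)) (U := ⊤) trivial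
  obtain ⟨U, hle, hy, hUO, hc⟩ := h₀.exists_le hy₀ (O := U₁ ⊓ f ⁻¹ᵁ V) ⟨hy₁, hyV⟩
  have hU : IsAffineOpen U.1 := U.2
  have hUV : U.1 ≤ f ⁻¹ᵁ V := hUO.trans inf_le_right
  have hU₁' : U.1 ≤ U₁ := hUO.trans inf_le_left
  let g : Fin c → Γ(X, U.1) := FLI.resFam hle g₀
  let w : Fin n → Γ(Ω, U.1) := fun k => Ω.presheaf.map (homOfLE hU₁').op (w₀ k)
  have hw : ∀ (x : X) (hx : x ∈ U.1), FrameAt Ω w hx := fun x hx =>
    (DetDegLib.frameAt_res hU₁' w₀ hx).2 (hq x (hUO hx).1)
  choose J hJ using fun j => (DetDegLib.frame_bijective hU w hw).2 (d.app U.1 (g j))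
  let B := Γ(X, U.1)
  let C := Γ(Y, i ⁻¹ᵁ U.1)
  let p : Ideal B := (hU.primeIdealOf ⟨i y, hy⟩).asIdeal
  letI : Algebra Γ(S, V) B := (f.appLE V U.1 hUV).hom.toAlgebra
  letI : Algebra B C := (i.app U.1).hom.toAlgebra
  have hC : i ⁻¹ᵁ U.1 ≤ (i ≫ f) ⁻¹ᵁ V := i.preimage_mono hUV
  letI : Algebra Γ(S, V) C := ((i ≫ f).appLE V (i ⁻¹ᵁ U.1) hC).hom.toAlgebra
  haveI : IsScalarTower Γ(S, V) B C := IsScalarTower.of_algebraMap_eq fun a => by
    refine (congr($((Scheme.Hom.appLE_comp_appLE i f V U.1 (i ⁻¹ᵁ U.1) hUV le_rfl).symm) a)).trans ?_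
    rw [ConcreteCategory.comp_apply, ← Scheme.Hom.app_eq_appLE]
    rfl
  haveI : Algebra.Smooth Γ(S, V) B := f.smooth_appLE hV hU hUV
  haveI : Algebra.Smooth Γ(S, V) C := (i ≫ f).smooth_appLE hV (hU.preimage i) hC
  have hker : RingHom.ker (algebraMap B C) = Ideal.span (Set.range g) := by
    rw [← hc.ideal_eq, Scheme.Hom.ker_apply]
    rfl
  obtain ⟨e, he⟩ := OmegaAffLib.exists_equiv hd hV hU hUV
  have hsurj : Function.Surjective (algebraMap B C) := i.app_surjective U.1 hU
  have hkp : RingHom.ker (algebraMap B C) ≤ p :=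
    (RegImmKindLib.ker_stalkMap i hU (hU.preimage i) hsurj y hy).2
  have hind : ∀ a : Fin c → B, (∀ k, ∑ j, a j * J j k ∈ p) → ∀ j, a j ∈ p := by
    intro a ha
    refine mem_of_sum_D_mem (A := Γ(S, V)) (B := B) (C := C) hsurj g hc.wreg hker p hkp a ?_
    have h1 : e (∑ j, a j • KaehlerDifferential.D Γ(S, V) B (g j)) ∈ p • (⊤ : Submodule B Γ(Ω, U.1)) := by
      rw [map_sum, Finset.sum_congr rfl fun j _ => (map_smul e (a j) _).trans
        (congrArg (a j • ·) ((he (g j)).trans (hJ j).symm))]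
      simp only [Finset.smul_sum, smul_smul]
      rw [Finset.sum_comm]
      refine sum_mem fun k _ => ?_
      rw [← Finset.sum_smul]
      exact Submodule.smul_mem_smul (ha k) trivial
    rw [show p • (⊤ : Submodule B Γ(Ω, U.1)) = (p • (⊤ : Submodule B Ω[B⁄Γ(S, V)])).map e.toLinearMap by
      rw [Submodule.map_smul'', Submodule.map_top, LinearMap.range_eq_top.2 e.surjective]] at h1
    obtain ⟨x, hx, hxe⟩ := h1
    rwa [e.injective hxe] at hx
  let K := p.ResidueField
  obtain ⟨m, k, σ, hσ⟩ := exists_completion K _ (linearIndependent_residue p J hind)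
  let T : Matrix (Fin n) (Fin n) B := Matrix.of fun a b =>
    Sum.elim (fun j => J j a) (fun t => (Pi.single (k t) (1 : B) : Fin n → B) a) (σ.symm b)
  let b' : Fin n → Γ(Ω, U.1) := fun b => ∑ a, T a b • w a
  have hdet : T.det ∉ p := fun hd0 => by
    have hu : IsUnit (T.map (algebraMap B K)) := by
      rw [← Matrix.linearIndependent_cols_iff_isUnit]
      convert hσ using 1
      funext b a
      rcases hb : σ.symm b with j | t
      · simp [T, hb, K]
      · simp [T, hb, K, Pi.single_apply]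
    have hu' := (Matrix.isUnit_iff_isUnit_det _).1 hu
    rw [show (T.map (algebraMap B K)).det = algebraMap B K T.det from ((algebraMap B K).map_det T).symm,
      Ideal.algebraMap_residueField_eq_zero.2 hd0] at hu'
    exact not_isUnit_zero hu'
  obtain ⟨W, hWU, hyW, hWD, hcW⟩ := hc.exists_le hy (O := X.basicOpen T.det) (by
    rw [show i y = hU.fromSpec (hU.primeIdealOf ⟨i y, hy⟩) from (hU.fromSpec_primeIdealOf ⟨i y, hy⟩).symm]
    show hU.primeIdealOf ⟨i y, hy⟩ ∈ hU.fromSpec ⁻¹ᵁ X.basicOpen T.det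
    rw [hU.fromSpec_preimage_basicOpen]
    exact hdet)
  refine ⟨m, σ, ⟨W, hcW.eU, fun a => Ω.presheaf.map (homOfLE hWU).op (b' a), fun z hz => hcW.frame z hz,
    fun x hx => ?_, fun j => ?_⟩, hyW⟩
  · rw [DetDegLib.frameAt_res]
    refine DetDegLib.frameAt_of_matrix w b' (hWU hx) (T.map (X.presheaf.germ U.1 x (hWU hx)).hom)
      (fun b => DetDegLib.gm_combo Ω w (hWU hx) fun a => T a b) (hw x (hWU hx)) ?_
    rw [show (T.map (X.presheaf.germ U.1 x (hWU hx)).hom).det = (X.presheaf.germ U.1 x (hWU hx)).hom T.det from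
      ((X.presheaf.germ U.1 x (hWU hx)).hom.map_det T).symm]
    exact (Scheme.mem_basicOpen X T.det x (hWU hx)).1 (hWD hx)
  · refine (hφ W.1 (hcW.lifts j)).trans (congrArg (OmegaSh.pullSect i Ω W.1) ?_)
    rw [hcW.idealSect_lifts]
    refine (OmegaAffLib.der_rs d hWU (g j)).trans (congrArg (Ω.presheaf.map (homOfLE hWU).op) ?_)
    rw [← hJ j]
    exact Finset.sum_congr rfl fun a _ => by simp [T]

end Datum

end AdjFormLib
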