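import Groth.Agent.S11924
import Groth.Agent.PnDualLib.DualX
import Groth.Agent.CIGenLib.SmoothPts
import Groth.Agent.NormalLib.Regular
import Groth.Agent.PerfLib.Coherent
import Groth.Agent.CurvLib.Line

/-!
# Duality data of a smooth projective scheme
-/

set_option autoImplicit false
set_option linter.style.haveILetI false
set_option backward.isDefEq.respectTransparency false
set_option backward.isDefEq.respectTransparency.types false
universe u

open CategoryTheory CategoryTheory.Limits AlgebraicGeometry

noncomputable section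

namespace AdjFormLib

/-- The top forms of a smooth projective scheme give duality data. -/
theorem nonempty_dualData_smooth (k : Type u) [Field k] [IsAlgClosed k] (N n : ℕ) (X : Scheme.{u})
    [X.Over (Spec (CommRingCat.of k))] [SmoothOfRelativeDimension n (X ↘ Spec (CommRingCat.of k))]
    (ι : X ⟶ CohB1.ProjSpace N k) [IsClosedImmersion ι]
    (hι : ι ≫ CohB1.ProjSpace.toSpec N k = X ↘ Spec (CommRingCat.of k)) (L : X.Modules)
    (hL : ExtPow.IsExtPow n (Omega.sheaf (X ↘ Spec (CommRingCat.of k))) L) :
    ∃ D : PnDualLib.DualData ι n, D.ω = L ∧ D.s = n := by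
  haveI := PnCohLib.isLocallyNoetherian_projSpace (n := N) k
  haveI : IsProper (CohB1.ProjSpace.toSpec N k) := ProjDegLib.toSpec_isProper k N
  haveI : Smooth (X ↘ Spec (CommRingCat.of k)) := SmoothOfRelativeDimension.smooth n _
  haveI : IsLocallyNoetherian X := LocallyOfFiniteType.isLocallyNoetherian ι
  obtain ⟨t, ht⟩ := Groth.Agent.S11924.result k N n X ι hι L hL
  have hLc : Coh.IsCoh L := CurvLib.isCoh_of_isInvertible
    (CohCmpLib.isInvertible_of_isExtPow (CohCmpLib.rank_omega _ n) hL)
  refine PnDualLib.nonempty_dualData ι n L hLc t ht fun x hx => ?_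
  obtain ⟨h1, h2⟩ := CIGen.closedPt_of_smooth (X ↘ Spec (CommRingCat.of k)) n x hx
  have h3 := NormalLib.le_depth_self_of_isRegularLocalRing (X.presheaf.stalk x)
  rw [h2] at h3
  exact WithBot.coe_le_coe.1 h3

end AdjFormLib
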